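import Mathlib
import Groth.Prelude.Def_PerfAux
import Groth.Prelude.Def_ega3
import Groth.Agent.Lib.Helper7.Betti.BC

set_option linter.style.haveILetI false
set_option linter.unusedVariables false
set_option linter.unusedSectionVars false
set_option autoImplicit false
set_option backward.isDefEq.respectTransparency.types false
set_option synthInstance.maxHeartbeats 400000
set_option maxHeartbeats 1600000

universe u

/-! helper7: base change invariance of the vanishing of fibre cohomology (Subsingleton of CohIII.fiberH) along cartesian squares, via helper3 FlatTen over residue field extensions. -/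

open CategoryTheory CategoryTheory.Limits AlgebraicGeometry TensorProduct

namespace Groth.Agent.Helper7.CohBC

/-- vanishing of fibre cohomology only depends on the isomorphism class of the module. -/
theorem subsingleton_fiberH_congr {X S : Scheme.{u}} (f : X ⟶ S) {F G : X.Modules} (e : F ≅ G)
    (s : S) (i : ℕ) :
    Subsingleton (CohIII.fiberH f F s i) ↔ Subsingleton (CohIII.fiberH f G s i) := by
  letI : (f.fiber s).Over (Spec (CommRingCat.of (S.residueField s))) :=
    ⟨f.fiberToSpecResidueField s⟩
  have e' := Groth.Agent.Helper3.FlatTen.HHcongr (S.residueField s)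
    ((Scheme.Modules.pullback (f.fiberι s)).mapIso e) i
  exact ⟨fun h => @Function.Injective.subsingleton _ _ _ e'.symm.injective h,
    fun h => @Function.Injective.subsingleton _ _ _ e'.injective h⟩

set_option backward.isDefEq.respectTransparency false in
/-- **base change invariance of the vanishing of fibre cohomology**: for a cartesian square, the
cohomology of the fibre over `s'` vanishes iff that of the fibre over the image of `s'` does. -/
theorem subsingleton_fiberH_baseChange {X S X' S' : Scheme.{u}} (f : X ⟶ S) (g : S' ⟶ S)
    (g' : X' ⟶ X) (f' : X' ⟶ S') (h : IsPullback g' f' f g) [QuasiCompact f] [QuasiSeparated f]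
    (F : X.Modules) [F.IsQuasicoherent] (s' : S') (i : ℕ) :
    Subsingleton (CohIII.fiberH f' ((Scheme.Modules.pullback g').obj F) s' i) ↔
      Subsingleton (CohIII.fiberH f F (g s') i) := by
  letI oY : (f.fiber (g s')).Over (Spec (CommRingCat.of (S.residueField (g s')))) :=
    ⟨f.fiberToSpecResidueField (g s')⟩
  letI oY' : (f'.fiber s').Over (Spec (CommRingCat.of (S'.residueField s'))) :=
    ⟨f'.fiberToSpecResidueField s'⟩
  letI alg : Algebra (S.residueField (g s')) (S'.residueField s') :=
    (g.residueFieldMap s').hom.toAlgebra
  have hpb := isPullback_fiberToSpecResidueField_of_isPullback h s'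
  obtain ⟨γ, hγ⟩ : ∃ γ : f'.fiber s' ⟶ f.fiber (g s'),
      γ = pullback.map f' (S'.fromSpecResidueField s') f (S.fromSpecResidueField (g s')) g'
        (Spec.map (g.residueFieldMap s')) g h.w.symm (by simp) := ⟨_, rfl⟩
  rw [← hγ] at hpb
  have he : γ ≫ f.fiberι (g s') = f'.fiberι s' ≫ g' := by
    rw [hγ]
    exact pullback.lift_fst _ _ _
  haveI : QuasiCompact (f.fiberToSpecResidueField (g s')) :=
    inferInstanceAs (QuasiCompact (pullback.snd f (S.fromSpecResidueField (g s'))))
  haveI : QuasiSeparated (f.fiberToSpecResidueField (g s')) :=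
    inferInstanceAs (QuasiSeparated (pullback.snd f (S.fromSpecResidueField (g s'))))
  haveI : CompactSpace ↥(f.fiber (g s')) :=
    QuasiCompact.compactSpace_of_compactSpace (f.fiberToSpecResidueField (g s'))
  haveI : QuasiSeparatedSpace ↥(f.fiber (g s')) :=
    quasiSeparatedSpace_of_quasiSeparated (f.fiberToSpecResidueField (g s'))
  haveI : ((Scheme.Modules.pullback (f.fiberι (g s'))).obj F).IsQuasicoherent :=
    Groth.Agent.Lead.PB.isQuasicoherent_pullback _ _
  obtain ⟨e1⟩ := Groth.Agent.Helper3.FlatTen.main (S.residueField (g s')) (S'.residueField s')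
    (S'.residueField s') γ hpb ((Scheme.Modules.pullback (f.fiberι (g s'))).obj F) i
  obtain ⟨i1⟩ := Groth.Agent.Helper7.Betti.nonempty_tensorMod_pullback_tildeSelf_iso
    (S'.residueField s') (f'.fiberToSpecResidueField s')
    ((Scheme.Modules.pullback γ).obj ((Scheme.Modules.pullback (f.fiberι (g s'))).obj F))
  have e2 := Groth.Agent.Helper3.FlatTen.HHcongr (S'.residueField s')
    (i1 ≪≫ Groth.Agent.Helper7.ConsMod.pullbackSquareIso he F) i
  have e3 := e1.trans e2
  have hff : Subsingleton ((S'.residueField s') ⊗[S.residueField (g s')]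
      Coh.HH (f.fiber (g s')) ((Scheme.Modules.pullback (f.fiberι (g s'))).obj F) i) ↔
      Subsingleton (Coh.HH (f.fiber (g s')) ((Scheme.Modules.pullback (f.fiberι (g s'))).obj F) i) :=
    Module.FaithfullyFlat.subsingleton_tensorProduct_iff_right _ _
  exact ⟨fun h => hff.1 (@Function.Injective.subsingleton _ _ _ e3.injective h),
    fun h => @Function.Injective.subsingleton _ _ _ e3.symm.injective (hff.2 h)⟩

end Groth.Agent.Helper7.CohBC
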