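import Mathlib
import Groth.Agent.Lib.Helper7.CohBC.Fib
import Groth.Agent.Lib.Helper7.Betti.Main
import Groth.Agent.Lib.Helper4.FibLift2

set_option linter.style.haveILetI false
set_option linter.unusedVariables false
set_option linter.unusedSectionVars false
set_option autoImplicit false
set_option backward.isDefEq.respectTransparency.types false
set_option backward.isDefEq.respectTransparency false
set_option synthInstance.maxHeartbeats 400000
set_option maxHeartbeats 1600000

universe u

/-! helper7: Noetherian models of proper flat finitely presented families over an affine base with fibrewise vanishing of cohomology in finitely many degrees at all points (after inverting a function), with induced cartesian squares for affine base changes. -/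

open CategoryTheory CategoryTheory.Limits AlgebraicGeometry Opposite TopologicalSpace Topology

namespace Groth.Agent.Helper7.CohBC

/-- finitely many open conditions at a point hold on a common open neighbourhood. -/
theorem exists_open_forall_finset {T : Type*} [TopologicalSpace T] (P : ℕ → T → Prop) (y : T)
    (I : Finset ℕ)
    (h : ∀ i ∈ I, ∃ U : Set T, IsOpen U ∧ y ∈ U ∧ ∀ y' ∈ U, P i y') :
    ∃ U : Set T, IsOpen U ∧ y ∈ U ∧ ∀ y' ∈ U, ∀ i ∈ I, P i y' := by
  classical
  induction I using Finset.induction_on with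
  | empty => exact ⟨Set.univ, isOpen_univ, Set.mem_univ _, fun _ _ i hi => by simp at hi⟩
  | insert a s ha ih =>
    obtain ⟨U₁, h1, h2, h3⟩ := ih (fun i hi => h i (Finset.mem_insert_of_mem hi))
    obtain ⟨U₂, k1, k2, k3⟩ := h a (Finset.mem_insert_self a s)
    refine ⟨U₁ ∩ U₂, h1.inter k1, ⟨h2, k2⟩, fun y' hy' i hi => ?_⟩
    rcases Finset.mem_insert.1 hi with rfl | hi'
    · exact k3 y' hy'.2
    · exact h3 y' hy'.1 i hi'

/-- **Noetherian models with fibrewise vanishing**: for a proper morphism of finite presentation to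
an affine scheme, a finitely presented module flat over the base and a point at which the fibre
cohomology vanishes in finitely many given degrees, there is an element `g` not vanishing at the
point and a proper flat coherent family over a Noetherian ring, all of whose fibres have vanishing
cohomology in the given degrees, from which the family is obtained by base change after inverting
`g`. -/
theorem exists_noeth_model_vanishing (A : Type u) [CommRing A] {X : Scheme.{u}}
    (f : X ⟶ Spec (CommRingCat.of A)) [IsProper f] [LocallyOfFinitePresentation f]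
    (F : X.Modules) [F.IsQuasicoherent] (hF : CohB1.IsFP F) (hfl : FlatMod.IsFlatOver f F)
    (y : ↥(Spec (CommRingCat.of A))) (I : Finset ℕ)
    (hI : ∀ i ∈ I, Subsingleton (CohIII.fiberH f F y i)) :
    ∃ (g : A) (A₁ : Type u) (_ : CommRing A₁) (_ : IsNoetherianRing A₁) (X₁ : Scheme.{u})
      (f₁ : X₁ ⟶ Spec (CommRingCat.of A₁)) (F₁ : X₁.Modules),
      g ∉ y.asIdeal ∧ IsProper f₁ ∧ Coh.IsCoh F₁ ∧ FlatMod.IsFlatOver f₁ F₁ ∧
      (∀ (y₁ : ↥(Spec (CommRingCat.of A₁))), ∀ i ∈ I, Subsingleton (CohIII.fiberH f₁ F₁ y₁ i)) ∧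
      ∀ (B : Type u) [CommRing B] (ψ : A →+* B), IsUnit (ψ g) →
        ∀ (X' : Scheme.{u}) (f' : X' ⟶ Spec (CommRingCat.of B)) (r : X' ⟶ X),
          IsPullback r f' f (Spec.map (CommRingCat.ofHom ψ)) →
          ∃ (φ₁ : A₁ →+* B) (r₁ : X' ⟶ X₁),
            IsPullback r₁ f' f₁ (Spec.map (CommRingCat.ofHom φ₁)) ∧
            Nonempty ((Scheme.Modules.pullback r₁).obj F₁ ≅ (Scheme.Modules.pullback r).obj F) := by
  obtain ⟨j, X₀, f₀, F₀, q, hprop, hcoh, hflat, hpb, ⟨e⟩⟩ :=
    Groth.Agent.Helper7.Betti.exists_model_proper_flat A f F hF hfl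
  haveI := hprop
  haveI : F₀.IsQuasicoherent := hcoh.1
  haveI : Algebra.FiniteType ℤ ↥j.unop.1 := (Subalgebra.fg_iff_finiteType _).mp j.unop.2
  haveI : IsNoetherianRing ↥j.unop.1 := Algebra.FiniteType.isNoetherianRing ℤ _
  haveI : IsLocallyNoetherian (Spec (CommRingCat.of ↥j.unop.1)) := inferInstance
  -- the model as a morphism to the spectrum of the subring
  obtain ⟨f₀', hf₀'⟩ : ∃ f₀' : X₀ ⟶ Spec (CommRingCat.of ↥j.unop.1), f₀' = f₀ := ⟨f₀, rfl⟩
  haveI : IsProper f₀' := by rw [hf₀']; exact hprop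
  have hflat' : FlatMod.IsFlatOver f₀' F₀ := by rw [hf₀']; exact hflat
  obtain ⟨ρ, hρ⟩ : ∃ ρ : Spec (CommRingCat.of A) ⟶ Spec (CommRingCat.of ↥j.unop.1),
      ρ = Spec.map (CommRingCat.ofHom (algebraMap ↥j.unop.1 A)) := ⟨_, rfl⟩
  have hpb' : IsPullback q f f₀' ρ := by rw [hf₀', hρ]; exact hpb
  have h2 : ∀ i ∈ I, Subsingleton (CohIII.fiberH f₀' F₀ (ρ y) i) := fun i hi =>
    (subsingleton_fiberH_baseChange f₀' ρ q f hpb' F₀ y i).1
      ((subsingleton_fiberH_congr f e y i).2 (hI i hi))
  -- a common open neighbourhood on which the fibre cohomology vanishes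
  obtain ⟨U, hUo, hyU, hU⟩ := exists_open_forall_finset
    (fun i y' => Subsingleton (CohIII.fiberH f₀' F₀ y' i)) (ρ y) I (fun i hi => by
      obtain ⟨U, hyU, hU⟩ := Groth.Agent.Lib.Helper4.FibLift2.exists_open_fibre_vanishing f₀' F₀
        hcoh hflat' (ρ y) i (h2 i hi)
      exact ⟨U.1, U.2, hyU, hU⟩)
  obtain ⟨_, ⟨g₀, rfl⟩, hyg, hgU⟩ :=
    PrimeSpectrum.isTopologicalBasis_basic_opens.exists_subset_of_mem_open hyU hUo
  have hg₀ : g₀ ∉ (ρ y).asIdeal := hyg
  -- the localized model
  let ι₁ : Spec (CommRingCat.of (Localization.Away g₀)) ⟶ Spec (CommRingCat.of ↥j.unop.1) :=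
    Spec.map (CommRingCat.ofHom (algebraMap ↥j.unop.1 (Localization.Away g₀)))
  have hpbk := IsPullback.of_hasPullback f₀' ι₁
  refine ⟨algebraMap ↥j.unop.1 A g₀, Localization.Away g₀, inferInstance, inferInstance,
    pullback f₀' ι₁, pullback.snd f₀' ι₁,
    (Scheme.Modules.pullback (pullback.fst f₀' ι₁)).obj F₀, ?_, inferInstance,
    Groth.Agent.Helper7.ConsMod.isCoh_pullback _ F₀ hcoh,
    fun z => Groth.Agent.Lead.FB.flat_baseChange hpbk F₀ z (hflat' _), ?_, ?_⟩
  · intro hc
    apply hg₀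
    rw [hρ]
    exact hc
  · intro y₁ i hi
    rw [subsingleton_fiberH_baseChange f₀' ι₁ (pullback.fst f₀' ι₁) (pullback.snd f₀' ι₁) hpbk
      F₀ y₁ i]
    refine hU _ (hgU ?_) i hi
    show g₀ ∉ (ι₁ y₁).asIdeal
    intro hc
    have h1 : algebraMap ↥j.unop.1 (Localization.Away g₀) g₀ ∈ y₁.asIdeal := hc
    exact y₁.isPrime.ne_top (Ideal.eq_top_of_isUnit_mem _ h1
      (IsLocalization.Away.algebraMap_isUnit g₀))
  · intro B _ ψ hu X' f' r hsq
    have hu' : IsUnit ((ψ.comp (algebraMap ↥j.unop.1 A)) g₀) := hu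
    let φ₁ : Localization.Away g₀ →+* B := IsLocalization.Away.lift g₀ hu'
    have hφ₁ : φ₁.comp (algebraMap ↥j.unop.1 (Localization.Away g₀)) =
        ψ.comp (algebraMap ↥j.unop.1 A) := IsLocalization.Away.lift_comp g₀ hu'
    have hbot : Spec.map (CommRingCat.ofHom ψ) ≫ ρ = Spec.map (CommRingCat.ofHom φ₁) ≫ ι₁ := by
      rw [hρ]
      show Spec.map _ ≫ Spec.map _ = Spec.map _ ≫ Spec.map _
      rw [← Spec.map_comp, ← Spec.map_comp, ← CommRingCat.ofHom_comp, ← CommRingCat.ofHom_comp,
        hφ₁]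
    have hbig : IsPullback (r ≫ q) f' f₀' (Spec.map (CommRingCat.ofHom φ₁) ≫ ι₁) := by
      rw [← hbot]
      exact hsq.paste_horiz hpb'
    have hw : (r ≫ q) ≫ f₀' = (f' ≫ Spec.map (CommRingCat.ofHom φ₁)) ≫ ι₁ := by
      rw [Category.assoc, Category.assoc]
      exact hbig.w
    refine ⟨φ₁, pullback.lift (r ≫ q) (f' ≫ Spec.map (CommRingCat.ofHom φ₁)) hw, ?_, ?_⟩
    · refine IsPullback.of_right (h₁₂ := pullback.fst f₀' ι₁) (h₂₂ := ι₁) (v₁₃ := f₀') ?_
        (pullback.lift_snd _ _ _) hpbk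
      rw [pullback.lift_fst]
      exact hbig
    · exact ⟨(Groth.Agent.Helper7.ConsMod.pullbackFacIso (pullback.lift_fst _ _ _) F₀).symm ≪≫
        Groth.Agent.Helper7.ConsMod.pullbackFacIso rfl F₀ ≪≫
        (Scheme.Modules.pullback r).mapIso e⟩

end Groth.Agent.Helper7.CohBC
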