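import Mathlib
import Groth.Prelude.Def_ega3
import Groth.Agent.Lib.Helper4.TruncAlg1
import Groth.Agent.Lib.Helper4.MumBC2

set_option linter.style.haveILetI false
set_option linter.unusedVariables false
set_option linter.unusedSectionVars false
set_option autoImplicit false
set_option backward.isDefEq.respectTransparency.types false
set_option backward.isDefEq.respectTransparency false
set_option synthInstance.maxHeartbeats 400000
set_option maxHeartbeats 1600000

universe u

/-! helper7: linearity of the T-functors on scalar multiples of identities, generalized inverses of the induced differential on cokernels, and finite projectivity of the value at the unit module of a functor naturally and additively isomorphic to a T-functor after restriction of scalars (equivariance from naturality). -/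

open CategoryTheory CategoryTheory.Limits TensorProduct MonoidalCategory
open Groth.Agent.Lib.Helper4.HomEl1
open Groth.Agent.Lib.Helper4.ExchAlg1
open Groth.Agent.Lib.Helper4.ExchAlg2
open Groth.Agent.Lib.Helper4.TruncAlg1
open Groth.Agent.Lib.Helper4.MumBC2
open Groth.Agent.Lib.Helper4.BCSec2

namespace Groth.Agent.Helper7.CohBC

section Lin
variable {B : Type u} [CommRing B] (P : CochainComplex (ModuleCat.{u} B) ℤ)

/-- the functor `M ↦ H^p(P ⊗ M)` is linear on scalar multiples of identities. -/
theorem TFun_map_smul (p : ℤ) (M : ModuleCat.{u} B) (b : B) :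
    (CohIII.TFun P p).map (b • 𝟙 M) = b • 𝟙 ((CohIII.TFun P p).obj M) := by
  apply ModuleCat.hom_ext
  apply LinearMap.ext
  intro c
  obtain ⟨z, rfl⟩ := cls_surjective (KM P M) p (p + 1) rfl c
  refine (map_cls (CohIII.tensorMap P (b • 𝟙 M)) p (p + 1) rfl z).trans ?_
  change _ = b • cls (KM P M) p (p + 1) rfl z
  rw [← map_smul]
  congr 1
  apply Subtype.ext
  change (b • 𝟙 M : M ⟶ M).hom.lTensor (P.X p) z.1 = b • z.1
  have h : (b • 𝟙 M : M ⟶ M).hom = b • LinearMap.id := rfl
  rw [h, LinearMap.lTensor_smul, LinearMap.lTensor_id]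
  rfl

end Lin

section GenInv
variable {A : Type u} [CommRing A] (K : CochainComplex (ModuleCat.{u} A) ℤ) (o p q : ℤ)

/-- if the term in degree `q` and the cokernel of the differential into it are projective, the
induced differential from the previous cokernel has a generalized inverse. -/
theorem exists_generalized_inverse [Module.Projective A (K.X q)]
    [Module.Projective A (Wq K p q)] :
    ∃ t : K.X q →ₗ[A] Wq K o p, dbar K o p q ∘ₗ t ∘ₗ dbar K o p q = dbar K o p q := by
  obtain ⟨s2, hs2⟩ := Module.projective_lifting_property (mkW K p q) LinearMap.id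
    (Submodule.mkQ_surjective _)
  let ρ : K.X q →ₗ[A] Bq K p q := LinearMap.codRestrict (Bq K p q)
    (LinearMap.id - s2 ∘ₗ mkW K p q) (by
      intro x
      rw [← Submodule.Quotient.mk_eq_zero (Bq K p q)]
      change mkW K p q (x - s2 (mkW K p q x)) = 0
      rw [map_sub, ← LinearMap.comp_apply (mkW K p q) s2, hs2, LinearMap.id_apply, sub_self])
  have hρ : ∀ x : Bq K p q, ρ x.1 = x := by
    intro x
    apply Subtype.ext
    change x.1 - s2 (mkW K p q x.1) = x.1
    have h0 : mkW K p q x.1 = 0 := (Submodule.Quotient.mk_eq_zero _).2 x.2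
    rw [h0, map_zero, sub_zero]
  haveI : Module.Projective A (Bq K p q) :=
    Module.Projective.of_split (Bq K p q).subtype ρ (LinearMap.ext hρ)
  let σ : Wq K o p →ₗ[A] Bq K p q := LinearMap.codRestrict (Bq K p q) (dbar K o p q) (fun w => by
    rw [← range_dbar K o p q]
    exact ⟨w, rfl⟩)
  have hσ : Function.Surjective σ := by
    rintro ⟨b, hb⟩
    rw [← range_dbar K o p q] at hb
    obtain ⟨w, rfl⟩ := hb
    exact ⟨w, rfl⟩
  obtain ⟨s1, hs1⟩ := Module.projective_lifting_property σ LinearMap.id hσ
  refine ⟨s1 ∘ₗ ρ, ?_⟩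
  apply LinearMap.ext
  intro w
  change dbar K o p q (s1 (ρ (dbar K o p q w))) = dbar K o p q w
  have h1 : ρ (dbar K o p q w) = σ w := hρ (σ w)
  rw [h1]
  have h2 : σ (s1 (σ w)) = σ w := LinearMap.congr_fun hs1 (σ w)
  exact congrArg Subtype.val h2

end GenInv

section Retract
variable {A B : Type u} [CommRing A] [CommRing B] [Algebra A B]
  (K : CochainComplex (ModuleCat.{u} A) ℤ) (o p q : ℤ) (hop : o + 1 = p) (hpq : p + 1 = q)
  [Module.Projective A (Wq K o p)] [Module.Finite A (Wq K o p)]
  (t : K.X q →ₗ[A] Wq K o p) (ht : dbar K o p q ∘ₗ t ∘ₗ dbar K o p q = dbar K o p q)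
  (G : ModuleCat.{u} B ⥤ ModuleCat.{u} B)
  (hG : ∀ b : B, G.map (b • 𝟙 (𝟙_ (ModuleCat.{u} B))) = b • 𝟙 (G.obj (𝟙_ (ModuleCat.{u} B))))
  (Ψ : ModuleCat.restrictScalars (algebraMap A B) ⋙ CohIII.TFun K p ⋙
      forget₂ (ModuleCat.{u} A) AddCommGrpCat.{u} ≅
    G ⋙ forget₂ (ModuleCat.{u} B) AddCommGrpCat.{u})

/-- the unit `B`-module as an `A`-module. -/
noncomputable abbrev NB : ModuleCat.{u} A :=
  (ModuleCat.restrictScalars (algebraMap A B)).obj (𝟙_ (ModuleCat.{u} B))

/-- multiplication by `b` on it. -/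
noncomputable abbrev mulN (b : B) : NB (A := A) (B := B) ⟶ NB (A := A) (B := B) :=
  (ModuleCat.restrictScalars (algebraMap A B)).map (b • 𝟙 (𝟙_ (ModuleCat.{u} B)))

variable (A B) in
/-- the swap `W ⊗ B ≃ B ⊗ W`. -/
noncomputable def cW (W : Type u) [AddCommGroup W] [Module A W] :
    W ⊗[A] (NB (A := A) (B := B)) →ₗ[A] B ⊗[A] W :=
  (TensorProduct.comm A W B).toLinearMap ∘ₗ LinearMap.lTensor W (rsUnitLin A B).toLinearMap

variable (A B) in
/-- its inverse. -/
noncomputable def cWi (W : Type u) [AddCommGroup W] [Module A W] :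
    B ⊗[A] W →ₗ[A] W ⊗[A] (NB (A := A) (B := B)) :=
  LinearMap.lTensor W (rsUnitLin A B).symm.toLinearMap ∘ₗ (TensorProduct.comm A W B).symm.toLinearMap

theorem cWi_cW (W : Type u) [AddCommGroup W] [Module A W] (z : W ⊗[A] (NB (A := A) (B := B))) :
    cWi A B W (cW A B W z) = z := by
  induction z using TensorProduct.induction_on with
  | zero => rw [map_zero, map_zero]
  | add x y hx hy => rw [map_add, map_add, hx, hy]
  | tmul w n => rfl

theorem cW_mul (W : Type u) [AddCommGroup W] [Module A W] (b : B)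
    (z : W ⊗[A] (NB (A := A) (B := B))) :
    cW A B W ((mulN (A := A) b).hom.lTensor W z) = b • cW A B W z := by
  induction z using TensorProduct.induction_on with
  | zero => rw [map_zero, map_zero, smul_zero]
  | add x y hx hy => simp only [map_add, smul_add, hx, hy]
  | tmul w n => rfl

theorem cWi_smul (W : Type u) [AddCommGroup W] [Module A W] (b : B) (z : B ⊗[A] W) :
    cWi A B W (b • z) = (mulN (A := A) b).hom.lTensor W (cWi A B W z) := by
  induction z using TensorProduct.induction_on with
  | zero => rw [smul_zero, map_zero, map_zero]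
  | add x y hx hy => simp only [map_add, smul_add, hx, hy]
  | tmul b' w => rfl

include hop hpq ht hG Ψ in
/-- **finite projectivity from a natural additive comparison**: if a functor `G` on `B`-modules,
linear on the multiples of the identity of the unit module, is additively and naturally
isomorphic to `M ↦ H^p(K ⊗_A M)` for a complex `K` of `A`-modules whose differential out of the
projective cokernel in degree `p` has a generalized inverse, then `G(B)` is a finite projective
`B`-module. -/
theorem finite_projective_of_natIso :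
    Module.Finite B (G.obj (𝟙_ (ModuleCat.{u} B))) ∧
      Module.Projective B (G.obj (𝟙_ (ModuleCat.{u} B))) := by
  let UB : ModuleCat.{u} B := 𝟙_ (ModuleCat.{u} B)
  let N : ModuleCat.{u} A := NB (A := A) (B := B)
  let l := dbar K o p q
  let e0 : (KM K N).homology p ≃+ G.obj UB := (Ψ.app UB).addCommGroupIsoToAddEquiv
  have h_nat : ∀ (b : B) (x : (KM K N).homology p),
      e0 (((CohIII.TFun K p).map (mulN (A := A) b)).hom x) = b • e0 x := by
    intro b x
    have h := ConcreteCategory.congr_hom (Ψ.hom.naturality (b • 𝟙 UB)) x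
    have h' : e0 (((CohIII.TFun K p).map (mulN (A := A) b)).hom x) =
        (G.map (b • 𝟙 UB)).hom (e0 x) := h
    rw [hG b] at h'
    exact h'
  let E := PsiE K o p q hop hpq N
  have E_nat : ∀ (b : B) (w : KerM K o p q N),
      ((CohIII.TFun K p).map (mulN (A := A) b)).hom (E w) =
        E ⟨(mulN (A := A) b).hom.lTensor (Wq K o p) w.1, kerMap_mem K o p q (mulN (A := A) b) w⟩ :=
    fun b w => Psi_natural K o p q hpq (mulN (A := A) b) w
  let pr : (Wq K o p) ⊗[A] N →ₗ[A] (Wq K o p) ⊗[A] N := (LinearMap.id - t ∘ₗ l).rTensor N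
  have pr_mem : ∀ z, pr z ∈ KerM K o p q N := by
    intro z
    change l.rTensor N (((LinearMap.id - t ∘ₗ l).rTensor N) z) = 0
    rw [← LinearMap.comp_apply, ← LinearMap.rTensor_comp]
    have h0 : l ∘ₗ (LinearMap.id - t ∘ₗ l) = 0 := by
      rw [LinearMap.comp_sub, LinearMap.comp_id, ht, sub_self]
    rw [h0, LinearMap.rTensor_zero]
    rfl
  have pr_ker : ∀ w : KerM K o p q N, pr w.1 = w.1 := by
    intro w
    have hw : l.rTensor N w.1 = 0 := w.2
    change ((LinearMap.id - t ∘ₗ l).rTensor N) w.1 = w.1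
    rw [LinearMap.rTensor_sub, LinearMap.sub_apply, LinearMap.rTensor_id, LinearMap.id_apply,
      LinearMap.rTensor_comp, LinearMap.comp_apply, hw, map_zero, sub_zero]
  have pr_mul : ∀ (b : B) z, pr ((mulN (A := A) b).hom.lTensor (Wq K o p) z) =
      (mulN (A := A) b).hom.lTensor (Wq K o p) (pr z) := by
    intro b z
    change ((LinearMap.id - t ∘ₗ l).rTensor N) ((mulN (A := A) b).hom.lTensor (Wq K o p) z) =
      (mulN (A := A) b).hom.lTensor (Wq K o p) (((LinearMap.id - t ∘ₗ l).rTensor N) z)
    rw [← LinearMap.comp_apply, ← LinearMap.comp_apply, LinearMap.rTensor_comp_lTensor,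
      LinearMap.lTensor_comp_rTensor]
  let iF : G.obj UB → B ⊗[A] (Wq K o p) := fun x => cW A B (Wq K o p) (E.symm (e0.symm x)).1
  let rF : B ⊗[A] (Wq K o p) → G.obj UB := fun z =>
    e0 (E ⟨pr (cWi A B (Wq K o p) z), pr_mem _⟩)
  have iF_add : ∀ x y, iF (x + y) = iF x + iF y := by
    intro x y
    change cW A B (Wq K o p) (E.symm (e0.symm (x + y))).1 =
      cW A B (Wq K o p) (E.symm (e0.symm x)).1 + cW A B (Wq K o p) (E.symm (e0.symm y)).1
    rw [map_add, map_add, Submodule.coe_add, map_add]
  have iF_smul : ∀ (b : B) x, iF (b • x) = b • iF x := by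
    intro b x
    have h1 : e0.symm (b • x) = ((CohIII.TFun K p).map (mulN (A := A) b)).hom (e0.symm x) := by
      apply e0.injective
      rw [AddEquiv.apply_symm_apply, h_nat, AddEquiv.apply_symm_apply]
    have h2 : E.symm (((CohIII.TFun K p).map (mulN (A := A) b)).hom (e0.symm x)) =
        ⟨(mulN (A := A) b).hom.lTensor (Wq K o p) (E.symm (e0.symm x)).1,
          kerMap_mem K o p q (mulN (A := A) b) (E.symm (e0.symm x))⟩ := by
      apply E.injective
      rw [LinearEquiv.apply_symm_apply, ← E_nat, LinearEquiv.apply_symm_apply]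
    change cW A B (Wq K o p) (E.symm (e0.symm (b • x))).1 =
      b • cW A B (Wq K o p) (E.symm (e0.symm x)).1
    rw [h1, h2]
    exact cW_mul (Wq K o p) b _
  have rF_add : ∀ x y, rF (x + y) = rF x + rF y := by
    intro x y
    change e0 (E ⟨pr (cWi A B (Wq K o p) (x + y)), pr_mem _⟩) =
      e0 (E ⟨pr (cWi A B (Wq K o p) x), pr_mem _⟩) + e0 (E ⟨pr (cWi A B (Wq K o p) y), pr_mem _⟩)
    rw [← map_add, ← map_add]
    refine congrArg e0 (congrArg E (Subtype.ext ?_))
    change pr (cWi A B (Wq K o p) (x + y)) =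
      pr (cWi A B (Wq K o p) x) + pr (cWi A B (Wq K o p) y)
    rw [map_add, map_add]
  have rF_smul : ∀ (b : B) z, rF (b • z) = b • rF z := by
    intro b z
    change e0 (E ⟨pr (cWi A B (Wq K o p) (b • z)), pr_mem _⟩) =
      b • e0 (E ⟨pr (cWi A B (Wq K o p) z), pr_mem _⟩)
    rw [← h_nat, E_nat]
    refine congrArg e0 (congrArg E (Subtype.ext ?_))
    change pr (cWi A B (Wq K o p) (b • z)) =
      (mulN (A := A) b).hom.lTensor (Wq K o p) (pr (cWi A B (Wq K o p) z))
    rw [cWi_smul, pr_mul]
  have rF_iF : ∀ x, rF (iF x) = x := by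
    intro x
    change e0 (E ⟨pr (cWi A B (Wq K o p) (cW A B (Wq K o p) (E.symm (e0.symm x)).1)), pr_mem _⟩) = x
    have h3 : (⟨pr (cWi A B (Wq K o p) (cW A B (Wq K o p) (E.symm (e0.symm x)).1)), pr_mem _⟩ :
        KerM K o p q N) = E.symm (e0.symm x) := by
      apply Subtype.ext
      change pr (cWi A B (Wq K o p) (cW A B (Wq K o p) (E.symm (e0.symm x)).1)) = _
      rw [cWi_cW, pr_ker]
    rw [h3, LinearEquiv.apply_symm_apply, AddEquiv.apply_symm_apply]
  let iL : G.obj UB →ₗ[B] B ⊗[A] (Wq K o p) :=
    { toFun := iF, map_add' := iF_add, map_smul' := iF_smul }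
  let rL : B ⊗[A] (Wq K o p) →ₗ[B] G.obj UB :=
    { toFun := rF, map_add' := rF_add, map_smul' := rF_smul }
  have hri : rL ∘ₗ iL = LinearMap.id := LinearMap.ext rF_iF
  exact ⟨Module.Finite.of_surjective rL (fun x => ⟨iL x, rF_iF x⟩),
    Module.Projective.of_split iL rL hri⟩

end Retract

end Groth.Agent.Helper7.CohBC
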