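import Mathlib
import Groth.Agent.Lib.Helper7.CohBC.Model
import Groth.Agent.Lib.Helper4.OpenVan1
import Groth.Agent.Lib.Helper4.RpushSec1
import Groth.Agent.Lib.Helper1.RpushLoc1
import Groth.Agent.Lib.Helper7.RelH1.Main

set_option linter.style.haveILetI false
set_option linter.unusedVariables false
set_option linter.unusedSectionVars false
set_option autoImplicit false
set_option backward.isDefEq.respectTransparency.types false
set_option backward.isDefEq.respectTransparency false
set_option synthInstance.maxHeartbeats 400000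
set_option maxHeartbeats 1600000

universe u

/-! helper7: vanishing of higher direct images and of cohomology of affine base changes from fibrewise vanishing, for proper finitely presented morphisms with finitely presented flat modules over arbitrary bases (universal vanishing via helper4 Mumford complex over a Noetherian model). -/

open CategoryTheory CategoryTheory.Limits AlgebraicGeometry Opposite TopologicalSpace Topology
open MonoidalCategory
open Groth.Agent.Helper1.RpushLoc
open Groth.Agent.Lib.Helper4.CechTen1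
open Groth.Agent.Lib.Helper4.CechTen2
open Groth.Agent.Lib.Helper4.CechTen3
open Groth.Agent.Lib.Helper4.BCSec2
open Groth.Agent.Lib.Helper4.MumCx1
open Groth.Agent.Lib.Helper4.MumCx2
open Groth.Agent.Lib.Helper4.MumBC1
open Groth.Agent.Lib.Helper4.MumBC2
open Groth.Agent.Lib.Helper4.TruncAlg1
open Groth.Agent.Lib.Helper4.OpenVan1

namespace Groth.Agent.Helper7.CohBC

attribute [local instance] Groth.Agent.Lib.Helper4.TenSec2.secMod

/-- **universal vanishing over a Noetherian base**: if the degree `p` cohomology of all fibres of a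
proper flat coherent family over a Noetherian ring vanishes, so does the degree `p` cohomology of
every base change to an affine scheme. -/
theorem subsingleton_HH_baseChange_of_fibre_vanishing (A : Type u) [CommRing A]
    [IsNoetherianRing A] {X : Scheme.{u}} (f : X ⟶ Spec (CommRingCat.of A)) [IsProper f]
    (F : X.Modules) (hF : Coh.IsCoh F) (hfl : FlatMod.IsFlatOver f F) (p : ℕ)
    (h : ∀ y : ↥(Spec (CommRingCat.of A)), Subsingleton (CohIII.fiberH f F y p))
    (B : Type u) [CommRing B] (φ : A →+* B) (X' : Scheme.{u})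
    (f' : X' ⟶ Spec (CommRingCat.of B)) (r : X' ⟶ X)
    (hsq : IsPullback r f' f (Spec.map (CommRingCat.ofHom φ))) :
    Subsingleton (Coh.HH X' ((Scheme.Modules.pullback r).obj F) p) := by
  letI : X.Over (Spec (CommRingCat.of A)) := ⟨f⟩
  haveI : IsProper (X ↘ Spec (CommRingCat.of A)) := ‹IsProper f›
  letI : X'.Over (Spec (CommRingCat.of B)) := ⟨f'⟩
  haveI : F.IsQuasicoherent := hF.1
  obtain ⟨D⟩ := nonempty_mdata A X F hF hfl
  haveI := D.fin
  haveI : ∀ i, Module.Finite A (D.K.X i) := fun i => (D.hff i).1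
  haveI : ∀ i, Module.Free A (D.K.X i) := fun i => (D.hff i).2
  have hfv : FibVan D.K (p : ℤ) := D.fibVan p h
  have huv : UVan D.K (p : ℤ) :=
    uvan_of_fibVan D.K ((p : ℤ) - 1) (p : ℤ) ((p : ℤ) + 1) (by ring) rfl hfv
  have e1 := hhBC φ r F D.U hsq D.haff D.hcov p
  have hz : IsZero ((CohIII.TFun (CZ A F D.U) (p : ℤ)).obj (rs φ (𝟙_ (ModuleCat.{u} B)))) :=
    (huv _).of_iso ((D.eK (p : ℤ)).app _).symm
  haveI := ModuleCat.subsingleton_of_isZero hz
  exact e1.toEquiv.subsingleton

/-- vanishing of the fibre cohomology at a point of an affine base gives vanishing of the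
cohomology of every affine base change on which a suitable function not vanishing at the point
becomes invertible. -/
theorem exists_unit_vanishing_affine (A : Type u) [CommRing A] {X : Scheme.{u}}
    (f : X ⟶ Spec (CommRingCat.of A)) [IsProper f] [LocallyOfFinitePresentation f]
    (F : X.Modules) [F.IsQuasicoherent] (hF : CohB1.IsFP F) (hfl : FlatMod.IsFlatOver f F)
    (y : ↥(Spec (CommRingCat.of A))) (p : ℕ) (h0 : Subsingleton (CohIII.fiberH f F y p)) :
    ∃ g : A, g ∉ y.asIdeal ∧ ∀ (B : Type u) [CommRing B] (ψ : A →+* B), IsUnit (ψ g) →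
      ∀ (X' : Scheme.{u}) (f' : X' ⟶ Spec (CommRingCat.of B)) (r : X' ⟶ X),
        IsPullback r f' f (Spec.map (CommRingCat.ofHom ψ)) →
        Subsingleton (Coh.HH X' ((Scheme.Modules.pullback r).obj F) p) := by
  obtain ⟨g, A₁, _, _, X₁, f₁, F₁, hg, hprop, hcoh, hflat, hvan, hbc⟩ :=
    exists_noeth_model_vanishing A f F hF hfl y {p} (fun i hi => by
      rw [Finset.mem_singleton] at hi
      subst hi
      exact h0)
  refine ⟨g, hg, fun B _ ψ hu X' f' r hsq => ?_⟩
  obtain ⟨φ₁, r₁, hsq₁, ⟨e⟩⟩ := hbc B ψ hu X' f' r hsq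
  haveI := hprop
  have h1 := subsingleton_HH_baseChange_of_fibre_vanishing A₁ f₁ F₁ hcoh hflat p
    (fun y₁ => hvan y₁ p (Finset.mem_singleton_self p)) B φ₁ X' f' r₁ hsq₁
  exact subsingleton_HH_of_iso e p h1

/-- **local vanishing of cohomology from vanishing on a fibre**: for a proper morphism of finite
presentation and a finitely presented module flat over the base, if the degree `p` cohomology of
the fibre at `y` vanishes then `y` has an affine open neighbourhood over whose preimage the degree
`p` cohomology vanishes. -/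
theorem exists_affine_nhd_HHon_subsingleton {X Y : Scheme.{u}} (π : X ⟶ Y) [IsProper π]
    [LocallyOfFinitePresentation π] (F : X.Modules) [F.IsQuasicoherent] (hfp : CohB1.IsFP F)
    (hfl : FlatMod.IsFlatOver π F) (p : ℕ) (y : Y)
    (h0 : Subsingleton (CohIII.fiberH π F y p)) :
    ∃ V : Y.Opens, IsAffineOpen V ∧ y ∈ V ∧ Subsingleton (Coh.HHon X F (π ⁻¹ᵁ V) p) := by
  obtain ⟨_, ⟨V₁, hV₁, rfl⟩, hyV₁, -⟩ :=
    Y.isBasis_affineOpens.exists_subset_of_mem_open (Set.mem_univ y) isOpen_univ
  have hsq := Groth.Agent.Lib.Helper4.ChartSq1.isPullback_chart π hV₁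
  haveI : IsProper (strMap π hV₁) :=
    MorphismProperty.of_isPullback (P := @IsProper) hsq inferInstance
  haveI : LocallyOfFinitePresentation (strMap π hV₁) :=
    MorphismProperty.of_isPullback (P := @LocallyOfFinitePresentation) hsq inferInstance
  have hF' : CohB1.IsFP ((Scheme.Modules.pullback (π ⁻¹ᵁ V₁).ι).obj F) :=
    Groth.Agent.Lead.LimZ.isFP_pullback _ F hfp
  haveI : ((Scheme.Modules.pullback (π ⁻¹ᵁ V₁).ι).obj F).IsQuasicoherent :=
    (Groth.Agent.Helper7.ConsMod.isCoh_of_isFP _ hF').1
  have hfl' : FlatMod.IsFlatOver (strMap π hV₁)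
      ((Scheme.Modules.pullback (π ⁻¹ᵁ V₁).ι).obj F) := fun z =>
    Groth.Agent.Lead.FB.flat_baseChange hsq F z (hfl _)
  have hr : y ∈ Set.range hV₁.fromSpec := by
    rw [hV₁.range_fromSpec]
    exact hyV₁
  obtain ⟨y₁, rfl⟩ := hr
  have h1 : Subsingleton (CohIII.fiberH (strMap π hV₁)
      ((Scheme.Modules.pullback (π ⁻¹ᵁ V₁).ι).obj F) y₁ p) :=
    (subsingleton_fiberH_baseChange π hV₁.fromSpec (π ⁻¹ᵁ V₁).ι _ hsq F y₁ p).2 h0
  obtain ⟨g, hg, hvan⟩ := exists_unit_vanishing_affine Γ(Y, V₁) (strMap π hV₁) _ hF' hfl' y₁ p h1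
  have hV : IsAffineOpen (Y.basicOpen g) := hV₁.basicOpen g
  have hle : Y.basicOpen g ≤ V₁ := Y.basicOpen_le g
  refine ⟨Y.basicOpen g, hV, ?_, ?_⟩
  · have h4 : y₁ ∈ hV₁.fromSpec ⁻¹ᵁ Y.basicOpen g := by
      rw [hV₁.fromSpec_preimage_basicOpen]
      exact hg
    exact h4
  · have hs := isPullback_strMap π hV₁ hV hle
    have hu : IsUnit ((Y.presheaf.map (homOfLE hle).op).hom g) :=
      Y.toRingedSpace.isUnit_res_basicOpen g
    have h2 := hvan Γ(Y, Y.basicOpen g) (Y.presheaf.map (homOfLE hle).op).hom hu _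
      (strMap π hV) (X.homOfLE (π.preimage_mono hle)) hs
    let e : (Scheme.Modules.pullback (X.homOfLE (π.preimage_mono hle))).obj
        ((Scheme.Modules.pullback (π ⁻¹ᵁ V₁).ι).obj F) ≅ F.restrict (π ⁻¹ᵁ Y.basicOpen g).ι :=
      (Groth.Agent.Helper7.ConsMod.pullbackFacIso (X.homOfLE_ι (π.preimage_mono hle)) F).symm ≪≫
        (Scheme.Modules.restrictFunctorIsoPullback _).symm.app F
    exact subsingleton_HH_of_iso e p h2

/-- **vanishing of a higher direct image from fibrewise vanishing**: for a proper morphism of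
finite presentation and a finitely presented module flat over the base whose fibres all have
vanishing cohomology in degree `p`, the `p`-th higher direct image vanishes. -/
theorem isZero_rpush_of_fibre_vanishing {X Y : Scheme.{u}} (π : X ⟶ Y) [IsProper π]
    [LocallyOfFinitePresentation π] [HasInjectiveResolutions X.Modules]
    (F : X.Modules) [F.IsQuasicoherent] (hfp : CohB1.IsFP F)
    (hfl : FlatMod.IsFlatOver π F) (p : ℕ)
    (h0 : ∀ y : Y, Subsingleton (CohIII.fiberH π F y p)) :
    IsZero ((Coh.Rpush π p).obj F) := by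
  choose V hVaff hyV hsub using fun y =>
    exists_affine_nhd_HHon_subsingleton π F hfp hfl p y (h0 y)
  apply Groth.Agent.Helper7.RelH1.isZero_of_basis_sections _
    {W : Y.Opens | IsAffineOpen W ∧ ∃ y, W ≤ V y}
  · rw [Opens.isBasis_iff_nbhd]
    intro U x hx
    have hxUV : x ∈ U ⊓ V x := ⟨hx, hyV x⟩
    obtain ⟨W, hW, hxW, hWle⟩ := (Opens.isBasis_iff_nbhd.mp Y.isBasis_affineOpens) hxUV
    exact ⟨W, ⟨hW, x, hWle.trans inf_le_right⟩, hxW, hWle.trans inf_le_left⟩
  · rintro W ⟨hW, y, hle⟩
    haveI h1 := subsingleton_HHon_of_le π F p (hVaff y) hW hle (hsub y)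
    obtain ⟨e⟩ := Groth.Agent.Lib.Helper4.RpushSec1.nonempty_sections_equiv π F hW p
    exact e.injective.subsingleton

end Groth.Agent.Helper7.CohBC
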