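import Mathlib
import Groth.Agent.Lib.Helper7.CohBC.Van
import Groth.Agent.Lib.Helper7.CohBC.Equiv
import Groth.Agent.Lib.Helper5.RpushCl.RpushClassic
import Groth.Agent.Lib.Lead.FLF4

set_option linter.style.haveILetI false
set_option linter.unusedVariables false
set_option linter.unusedSectionVars false
set_option autoImplicit false
set_option backward.isDefEq.respectTransparency.types false
set_option backward.isDefEq.respectTransparency false
set_option synthInstance.maxHeartbeats 400000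
set_option maxHeartbeats 1600000

universe u

/-! helper7: finite projectivity of the cohomology of affine base changes and finite local freeness / local vanishing of higher direct images from vanishing of fibre cohomology in adjacent degrees, for proper finitely presented morphisms with finitely presented flat modules over arbitrary bases. -/

open CategoryTheory CategoryTheory.Limits AlgebraicGeometry Opposite TopologicalSpace Topology
open MonoidalCategory
open Groth.Agent.Helper1.RpushLoc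
open Groth.Agent.Lib.Helper4.CechTen1
open Groth.Agent.Lib.Helper4.CechTen2
open Groth.Agent.Lib.Helper4.CechTen3
open Groth.Agent.Lib.Helper4.BCSec1
open Groth.Agent.Lib.Helper4.BCSec2
open Groth.Agent.Lib.Helper4.MumCx1
open Groth.Agent.Lib.Helper4.MumCx2
open Groth.Agent.Lib.Helper4.MumBC1
open Groth.Agent.Lib.Helper4.MumBC2
open Groth.Agent.Lib.Helper4.ExchAlg1
open Groth.Agent.Lib.Helper4.ExchAlg2
open Groth.Agent.Lib.Helper4.TruncAlg1
open Groth.Agent.Lib.Helper4.Grauert2
open Groth.Agent.Lib.Helper4.OpenVan1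

namespace Groth.Agent.Helper7.CohBC

attribute [local instance] Groth.Agent.Lib.Helper4.TenSec2.secMod

/-- **finite projectivity of the cohomology of base changes over a Noetherian base**: if the
cohomology of all fibres of a proper flat coherent family over a Noetherian ring vanishes in the
degrees `p - 1` and `p + 1`, the degree `p` cohomology of every base change to an affine scheme is
a finite projective module over the coordinate ring. -/
theorem finite_projective_HH_baseChange (A : Type u) [CommRing A] [IsNoetherianRing A]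
    {X : Scheme.{u}} (f : X ⟶ Spec (CommRingCat.of A)) [IsProper f] (F : X.Modules)
    (hF : Coh.IsCoh F) (hfl : FlatMod.IsFlatOver f F) (p : ℕ)
    (hp1 : ∀ y : ↥(Spec (CommRingCat.of A)), Subsingleton (CohIII.fiberH f F y (p + 1)))
    (hm1 : ∀ (y : ↥(Spec (CommRingCat.of A))) (i : ℕ), i + 1 = p →
      Subsingleton (CohIII.fiberH f F y i))
    (B : Type u) [CommRing B] (φ : A →+* B) (X' : Scheme.{u})
    (f' : X' ⟶ Spec (CommRingCat.of B)) (r : X' ⟶ X)
    (hsq : IsPullback r f' f (Spec.map (CommRingCat.ofHom φ))) :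
    letI : X'.Over (Spec (CommRingCat.of B)) := ⟨f'⟩
    Module.Finite B (Coh.HH X' ((Scheme.Modules.pullback r).obj F) p) ∧
      Module.Projective B (Coh.HH X' ((Scheme.Modules.pullback r).obj F) p) := by
  letI : X.Over (Spec (CommRingCat.of A)) := ⟨f⟩
  haveI : IsProper (X ↘ Spec (CommRingCat.of A)) := ‹IsProper f›
  letI : X'.Over (Spec (CommRingCat.of B)) := ⟨f'⟩
  letI : Algebra A B := φ.toAlgebra
  haveI : F.IsQuasicoherent := hF.1
  obtain ⟨D⟩ := nonempty_mdata A X F hF hfl
  haveI := D.fin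
  haveI : ∀ i, Module.Finite A (D.K.X i) := fun i => (D.hff i).1
  haveI : ∀ i, Module.Free A (D.K.X i) := fun i => (D.hff i).2
  have hfp : FibVan D.K ((p : ℤ) + 1) := by
    have h := D.fibVan (p + 1) hp1
    have e : ((p + 1 : ℕ) : ℤ) = (p : ℤ) + 1 := by push_cast; ring
    rw [e] at h
    exact h
  have hfm : FibVan D.K ((p : ℤ) - 1) := by
    rcases Nat.eq_zero_or_pos p with h0 | hpos
    · subst h0
      exact fibVan_of_uvan D.K _ (D.hneg _ (by norm_num))
    · obtain ⟨n, rfl⟩ : ∃ n, p = n + 1 := ⟨p - 1, by omega⟩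
      have h := D.fibVan n (fun y => hm1 y n rfl)
      have e : (n : ℤ) = ((n + 1 : ℕ) : ℤ) - 1 := by push_cast; ring
      rw [e] at h
      exact h
  obtain ⟨-, hW, -⟩ := flat_W_of_fibVan D.K ((p : ℤ) - 2) ((p : ℤ) - 1) (p : ℤ) (by ring)
    (by ring) hfm
  obtain ⟨hW', -, -⟩ := flat_W_of_fibVan D.K (p : ℤ) ((p : ℤ) + 1) ((p : ℤ) + 2) rfl
    (by ring) hfp
  haveI := hW
  haveI := hW'
  haveI : Module.FinitePresentation A (Wq D.K ((p : ℤ) - 1) (p : ℤ)) :=
    Module.finitePresentation_of_finite A _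
  haveI : Module.FinitePresentation A (Wq D.K (p : ℤ) ((p : ℤ) + 1)) :=
    Module.finitePresentation_of_finite A _
  haveI : Module.Projective A (Wq D.K ((p : ℤ) - 1) (p : ℤ)) :=
    Module.Flat.projective_of_finitePresentation
  haveI : Module.Projective A (Wq D.K (p : ℤ) ((p : ℤ) + 1)) :=
    Module.Flat.projective_of_finitePresentation
  obtain ⟨t, ht⟩ := exists_generalized_inverse D.K ((p : ℤ) - 1) (p : ℤ) ((p : ℤ) + 1)
  haveI : IsAffineHom r := isAffineHom_of_sq φ r hsq
  haveI : (Fp r F).IsQuasicoherent := Groth.Agent.Lead.PB.isQuasicoherent_pullback _ _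
  let G := CohIII.TFun (CZ B (Fp r F) (Up r D.U)) (p : ℤ)
  have hG : ∀ b : B, G.map (b • 𝟙 (𝟙_ (ModuleCat.{u} B))) =
      b • 𝟙 (G.obj (𝟙_ (ModuleCat.{u} B))) := fun b => TFun_map_smul _ (p : ℤ) _ b
  let Ψ : ModuleCat.restrictScalars (algebraMap A B) ⋙ CohIII.TFun D.K (p : ℤ) ⋙
      forget₂ (ModuleCat.{u} A) AddCommGrpCat.{u} ≅
      G ⋙ forget₂ (ModuleCat.{u} B) AddCommGrpCat.{u} :=
    Functor.isoWhiskerLeft (ModuleCat.restrictScalars φ)
      (Functor.isoWhiskerRight (D.eK (p : ℤ)) (forget₂ (ModuleCat.{u} A) AddCommGrpCat.{u})) ≪≫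
      bcCech φ r F D.U hsq D.haff p
  obtain ⟨h1, h2⟩ := finite_projective_of_natIso D.K ((p : ℤ) - 1) (p : ℤ) ((p : ℤ) + 1)
    (by ring) rfl t ht G hG Ψ
  let e1 := linHH B (Fp r F) (Up r D.U) (isAffineOpen_Wp r D.U D.haff) (iSup_Up r D.U D.hcov) p
  let e2 := ((HomologicalComplex.homologyMapIso (runitG (CAN B (Fp r F) (Up r D.U))) p).symm ≪≫
    (isoA B (Fp r F) (Up r D.U) (𝟙_ (ModuleCat.{u} B)) p).symm).toLinearEquiv
  let e : Coh.HH X' (Fp r F) p ≃ₗ[B] G.obj (𝟙_ (ModuleCat.{u} B)) := e1.symm.trans e2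
  exact ⟨Module.Finite.equiv e.symm, Module.Projective.of_equiv e.symm⟩

/-- vanishing of the fibre cohomology at a point of an affine base in the degrees `p - 1` and
`p + 1` makes the degree `p` cohomology of every affine base change, on which a suitable function
not vanishing at the point becomes invertible, a finite projective module. -/
theorem exists_unit_finite_projective_affine (A : Type u) [CommRing A] {X : Scheme.{u}}
    (f : X ⟶ Spec (CommRingCat.of A)) [IsProper f] [LocallyOfFinitePresentation f]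
    (F : X.Modules) [F.IsQuasicoherent] (hF : CohB1.IsFP F) (hfl : FlatMod.IsFlatOver f F)
    (y : ↥(Spec (CommRingCat.of A))) (p : ℕ)
    (hp1 : Subsingleton (CohIII.fiberH f F y (p + 1)))
    (hm1 : ∀ i : ℕ, i + 1 = p → Subsingleton (CohIII.fiberH f F y i)) :
    ∃ g : A, g ∉ y.asIdeal ∧ ∀ (B : Type u) [CommRing B] (ψ : A →+* B), IsUnit (ψ g) →
      ∀ (X' : Scheme.{u}) (f' : X' ⟶ Spec (CommRingCat.of B)) (r : X' ⟶ X),
        IsPullback r f' f (Spec.map (CommRingCat.ofHom ψ)) →
        letI : X'.Over (Spec (CommRingCat.of B)) := ⟨f'⟩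
        Module.Finite B (Coh.HH X' ((Scheme.Modules.pullback r).obj F) p) ∧
          Module.Projective B (Coh.HH X' ((Scheme.Modules.pullback r).obj F) p) := by
  classical
  obtain ⟨g, A₁, _, _, X₁, f₁, F₁, hg, hprop, hcoh, hflat, hvan, hbc⟩ :=
    exists_noeth_model_vanishing A f F hF hfl y
      (insert (p + 1) ((Finset.range p).filter (fun i => i + 1 = p))) (fun i hi => by
        rcases Finset.mem_insert.1 hi with rfl | hi'
        · exact hp1
        · exact hm1 i (Finset.mem_filter.1 hi').2)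
  refine ⟨g, hg, fun B _ ψ hu X' f' r hsq => ?_⟩
  obtain ⟨φ₁, r₁, hsq₁, ⟨e⟩⟩ := hbc B ψ hu X' f' r hsq
  haveI := hprop
  letI : X'.Over (Spec (CommRingCat.of B)) := ⟨f'⟩
  obtain ⟨k1, k2⟩ := finite_projective_HH_baseChange A₁ f₁ F₁ hcoh hflat p
    (fun y₁ => hvan y₁ (p + 1) (Finset.mem_insert_self _ _))
    (fun y₁ i hi => hvan y₁ i (Finset.mem_insert_of_mem
      (Finset.mem_filter.2 ⟨Finset.mem_range.2 (by omega), hi⟩))) B φ₁ X' f' r₁ hsq₁
  have e' := Groth.Agent.Helper3.FlatTen.HHcongr B e p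
  haveI := k1
  haveI := k2
  exact ⟨Module.Finite.equiv e', Module.Projective.of_equiv e'⟩

section Global

variable {X Y : Scheme.{u}} (π : X ⟶ Y) [IsProper π] [LocallyOfFinitePresentation π]
  [HasInjectiveResolutions X.Modules] (F : X.Modules) [F.IsQuasicoherent]
  (hfp : CohB1.IsFP F) (hfl : FlatMod.IsFlatOver π F)

include hfp hfl in
/-- vanishing of the degree `p` cohomology of the fibre at `y` makes the sections of `R^p π_* F`
vanish over all small affine opens around `y`. -/
theorem exists_affine_nhd_sections_subsingleton (p : ℕ) (y : Y)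
    (h0 : Subsingleton (CohIII.fiberH π F y p)) :
    ∃ V : Y.Opens, IsAffineOpen V ∧ y ∈ V ∧ ∀ W : Y.Opens, IsAffineOpen W → W ≤ V →
      Subsingleton Γ((Coh.Rpush π p).obj F, W) := by
  obtain ⟨V, hV, hyV, hsub⟩ := exists_affine_nhd_HHon_subsingleton π F hfp hfl p y h0
  refine ⟨V, hV, hyV, fun W hW hle => ?_⟩
  haveI := subsingleton_HHon_of_le π F p hV hW hle hsub
  obtain ⟨e⟩ := Groth.Agent.Lib.Helper4.RpushSec1.nonempty_sections_equiv π F hW p
  exact e.injective.subsingleton

include hfp hfl in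
/-- vanishing of the cohomology of the fibre at `y` in the degrees `p - 1` and `p + 1` makes the
sections of `R^p π_* F` over all small affine opens around `y` finite projective modules. -/
theorem exists_affine_nhd_sections_finite_projective (p : ℕ) (y : Y)
    (hp1 : Subsingleton (CohIII.fiberH π F y (p + 1)))
    (hm1 : ∀ i : ℕ, i + 1 = p → Subsingleton (CohIII.fiberH π F y i)) :
    ∃ V : Y.Opens, IsAffineOpen V ∧ y ∈ V ∧ ∀ W : Y.Opens, IsAffineOpen W → W ≤ V →
      Module.Finite Γ(Y, W) Γ((Coh.Rpush π p).obj F, W) ∧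
        Module.Projective Γ(Y, W) Γ((Coh.Rpush π p).obj F, W) := by
  obtain ⟨_, ⟨V₁, hV₁, rfl⟩, hyV₁, -⟩ :=
    Y.isBasis_affineOpens.exists_subset_of_mem_open (Set.mem_univ y) isOpen_univ
  have hsq := Groth.Agent.Lib.Helper4.ChartSq1.isPullback_chart π hV₁
  haveI : IsProper (strMap π hV₁) :=
    MorphismProperty.of_isPullback (P := @IsProper) hsq inferInstance
  haveI : LocallyOfFinitePresentation (strMap π hV₁) :=
    MorphismProperty.of_isPullback (P := @LocallyOfFinitePresentation) hsq inferInstance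
  have hF' : CohB1.IsFP ((Scheme.Modules.pullback (π ⁻¹ᵁ V₁).ι).obj F) :=
    Groth.Agent.Lead.LimZ.isFP_pullback _ F hfp
  haveI : ((Scheme.Modules.pullback (π ⁻¹ᵁ V₁).ι).obj F).IsQuasicoherent :=
    (Groth.Agent.Helper7.ConsMod.isCoh_of_isFP _ hF').1
  have hfl' : FlatMod.IsFlatOver (strMap π hV₁)
      ((Scheme.Modules.pullback (π ⁻¹ᵁ V₁).ι).obj F) := fun z =>
    Groth.Agent.Lead.FB.flat_baseChange hsq F z (hfl _)
  have hr : y ∈ Set.range hV₁.fromSpec := by
    rw [hV₁.range_fromSpec]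
    exact hyV₁
  obtain ⟨y₁, rfl⟩ := hr
  have h1p : Subsingleton (CohIII.fiberH (strMap π hV₁)
      ((Scheme.Modules.pullback (π ⁻¹ᵁ V₁).ι).obj F) y₁ (p + 1)) :=
    (subsingleton_fiberH_baseChange π hV₁.fromSpec (π ⁻¹ᵁ V₁).ι _ hsq F y₁ (p + 1)).2 hp1
  have h1m : ∀ i : ℕ, i + 1 = p → Subsingleton (CohIII.fiberH (strMap π hV₁)
      ((Scheme.Modules.pullback (π ⁻¹ᵁ V₁).ι).obj F) y₁ i) := fun i hi =>
    (subsingleton_fiberH_baseChange π hV₁.fromSpec (π ⁻¹ᵁ V₁).ι _ hsq F y₁ i).2 (hm1 i hi)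
  obtain ⟨g, hg, hfin⟩ := exists_unit_finite_projective_affine Γ(Y, V₁) (strMap π hV₁) _ hF' hfl'
    y₁ p h1p h1m
  refine ⟨Y.basicOpen g, hV₁.basicOpen g, ?_, fun W hW hle => ?_⟩
  · have h4 : y₁ ∈ hV₁.fromSpec ⁻¹ᵁ Y.basicOpen g := by
      rw [hV₁.fromSpec_preimage_basicOpen]
      exact hg
    exact h4
  · have hleW : W ≤ V₁ := hle.trans (Y.basicOpen_le g)
    have hs := isPullback_strMap π hV₁ hW hleW
    have hu : IsUnit ((Y.presheaf.map (homOfLE hleW).op).hom g) := by
      have h1 : IsUnit ((Y.presheaf.map (homOfLE (Y.basicOpen_le g)).op).hom g) :=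
        Y.toRingedSpace.isUnit_res_basicOpen g
      have hcomp : Y.presheaf.map (homOfLE hleW).op =
          Y.presheaf.map (homOfLE (Y.basicOpen_le g)).op ≫ Y.presheaf.map (homOfLE hle).op := by
        rw [← Functor.map_comp]
        congr 1
      rw [hcomp, CommRingCat.hom_comp, RingHom.comp_apply]
      exact h1.map _
    letI : (↑(π ⁻¹ᵁ W) : Scheme.{u}).Over (Spec (CommRingCat.of Γ(Y, W))) := ⟨strMap π hW⟩
    obtain ⟨k1, k2⟩ := hfin Γ(Y, W) (Y.presheaf.map (homOfLE hleW).op).hom hu _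
      (strMap π hW) (X.homOfLE (π.preimage_mono hleW)) hs
    let e : (Scheme.Modules.pullback (X.homOfLE (π.preimage_mono hleW))).obj
        ((Scheme.Modules.pullback (π ⁻¹ᵁ V₁).ι).obj F) ≅ F.restrict (π ⁻¹ᵁ W).ι :=
      (Groth.Agent.Helper7.ConsMod.pullbackFacIso (X.homOfLE_ι (π.preimage_mono hleW)) F).symm ≪≫
        (Scheme.Modules.restrictFunctorIsoPullback _).symm.app F
    have e' := Groth.Agent.Helper3.FlatTen.HHcongr Γ(Y, W) e p
    obtain ⟨es⟩ := Groth.Agent.Lib.Helper4.RpushSec1.nonempty_sections_equiv π F hW p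
    haveI := k1
    haveI := k2
    exact ⟨Module.Finite.equiv (e'.trans es.symm), Module.Projective.of_equiv (e'.trans es.symm)⟩

end Global

section Restrict

open Scheme.Modules

/-- a module whose sections over all affine opens inside `U` vanish restricts to zero on `U`. -/
theorem isZero_restrict_of_affine {Y : Scheme.{u}} (M : Y.Modules) (U : Y.Opens)
    (h : ∀ W : Y.Opens, IsAffineOpen W → W ≤ U → Subsingleton Γ(M, W)) :
    IsZero (M.restrict U.ι) := by
  apply Groth.Agent.Helper7.RelH1.isZero_of_basis_sections _ (↑U : Scheme.{u}).affineOpens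
    (↑U : Scheme.{u}).isBasis_affineOpens
  intro W' hW'
  exact h (U.ι ''ᵁ W') (IsAffineOpen.image_of_isOpenImmersion hW' U.ι) (U.ι_image_le W')

/-- a quasi-coherent module whose sections over all affine opens inside `U` are finite projective
restricts to a finite locally free module on `U`. -/
theorem isFinLocFree_restrict_of_affine {Y : Scheme.{u}} (M : Y.Modules) [M.IsQuasicoherent]
    (U : Y.Opens)
    (h : ∀ W : Y.Opens, IsAffineOpen W → W ≤ U →
      Module.Finite Γ(Y, W) Γ(M, W) ∧ Module.Projective Γ(Y, W) Γ(M, W)) :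
    FlatMod.IsFinLocFree (M.restrict U.ι) := by
  apply Groth.Agent.Lead.FLF.isFinLocFree_of_charts
  intro x
  obtain ⟨W, hW, hxW, hWU⟩ := (Opens.isBasis_iff_nbhd.mp Y.isBasis_affineOpens)
    (show U.ι x ∈ U from x.2)
  have hrange : Set.range hW.fromSpec ⊆ Set.range U.ι := by
    rw [hW.range_fromSpec, Scheme.Opens.range_ι]
    exact hWU
  obtain ⟨j, hj⟩ : ∃ j : Spec Γ(Y, W) ⟶ (↑U : Scheme.{u}), j ≫ U.ι = hW.fromSpec :=
    ⟨IsOpenImmersion.lift U.ι hW.fromSpec hrange, IsOpenImmersion.lift_fac _ _ _⟩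
  haveI : IsOpenImmersion (j ≫ U.ι) := by rw [hj]; infer_instance
  haveI : IsOpenImmersion j := IsOpenImmersion.of_comp j U.ι
  refine ⟨_, j, inferInstance, ?_, ?_⟩
  · have hx : U.ι x ∈ Set.range hW.fromSpec := by
      rw [hW.range_fromSpec]
      exact hxW
    obtain ⟨z, hz⟩ := hx
    refine ⟨z, ?_⟩
    apply U.ι.isOpenEmbedding.injective
    rw [← hz, ← hj]
    rfl
  · have e : (M.restrict U.ι).restrict j ≅ M.restrict hW.fromSpec :=
      ((restrictFunctorComp j U.ι).app M).symm ≪≫ (restrictFunctorCongr hj).app M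
    apply Groth.Agent.Lead.FLF.isFinLocFree_of_iso e.symm
    rw [Groth.Agent.Lead.FLF.isFinLocFree_spec_iff]
    obtain ⟨h1, h2⟩ := h W hW hWU
    exact ⟨Module.Finite.equiv (Groth.Agent.Lead.FLF.sectionsLinearEquiv hW M).symm,
      Module.Projective.of_equiv (Groth.Agent.Lead.FLF.sectionsLinearEquiv hW M).symm⟩

end Restrict

section Main

variable {X Y : Scheme.{u}} (π : X ⟶ Y) [IsProper π] [LocallyOfFinitePresentation π]
  [HasInjectiveResolutions X.Modules] (F : X.Modules) [F.IsQuasicoherent]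
  (hfp : CohB1.IsFP F) (hfl : FlatMod.IsFlatOver π F)

include hfp hfl in
/-- if the fibre cohomology vanishes in the degrees `q` and `q + 2` at all points, the direct
image `R^{q+1} π_* F` is finite locally free. -/
theorem isFinLocFree_rpush_succ (q : ℕ)
    (hq : ∀ y : Y, Subsingleton (CohIII.fiberH π F y q))
    (hq2 : ∀ y : Y, Subsingleton (CohIII.fiberH π F y (q + 2))) :
    FlatMod.IsFinLocFree ((Coh.Rpush π (q + 1)).obj F) := by
  haveI : ((Coh.Rpush π (q + 1)).obj F).IsQuasicoherent :=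
    Groth.Agent.Lib.Helper5.RpushClassic.isQuasicoherent_rpush π F (q + 1)
  apply Groth.Agent.Lead.FLF.isFinLocFree_of_affine_nhds
  intro y
  obtain ⟨V, hV, hyV, h⟩ := exists_affine_nhd_sections_finite_projective π F hfp hfl (q + 1) y
    (hq2 y) (fun i hi => by
      have h' : i = q := by omega
      subst h'
      exact hq y)
  exact ⟨V, hV, hyV, h V hV le_rfl⟩

include hfp hfl in
/-- vanishing of `H^1` of the fibre at `s` makes `R^1` vanish and the direct image finite locally
free near `s`. -/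
theorem exists_nhd_R1_zero_push_finLocFree (s : Y)
    (h1 : Subsingleton (CohIII.fiberH π F s 1)) :
    ∃ U : Y.Opens, s ∈ U ∧ IsZero (((Coh.Rpush π 1).obj F).restrict U.ι) ∧
      FlatMod.IsFinLocFree (((Coh.push π).obj F).restrict U.ι) := by
  obtain ⟨Va, hVa, hsa, ha⟩ := exists_affine_nhd_sections_subsingleton π F hfp hfl 1 s h1
  obtain ⟨Vb, hVb, hsb, hb⟩ := exists_affine_nhd_sections_finite_projective π F hfp hfl 0 s h1
    (fun i hi => absurd hi (by omega))
  refine ⟨Va ⊓ Vb, ⟨hsa, hsb⟩,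
    isZero_restrict_of_affine _ _ (fun W hW hle => ha W hW (hle.trans inf_le_left)), ?_⟩
  haveI : ((Coh.Rpush π 0).obj F).IsQuasicoherent :=
    Groth.Agent.Lib.Helper5.RpushClassic.isQuasicoherent_rpush π F 0
  have hP := isFinLocFree_restrict_of_affine ((Coh.Rpush π 0).obj F) (Va ⊓ Vb)
    (fun W hW hle => hb W hW (hle.trans inf_le_right))
  let e0 : (Coh.Rpush π 0).obj F ≅ (Scheme.Modules.pushforward π).obj F :=
    (Functor.rightDerivedZeroIsoSelf (Scheme.Modules.pushforward π)).app F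
  exact Groth.Agent.Lead.FLF.isFinLocFree_of_iso
    ((Scheme.Modules.restrictFunctor (Va ⊓ Vb).ι).mapIso e0) hP

include hfp hfl in
/-- vanishing of the cohomology of the fibre at `s` in the degrees `i - 1` and `i + 1` makes
`R^{i-1}` and `R^{i+1}` vanish and `R^i` finite locally free near `s`. -/
theorem exists_nhd_adjacent (i : ℕ) (hi : 1 ≤ i) (s : Y)
    (habove : Subsingleton (CohIII.fiberH π F s (i + 1)))
    (hbelow : Subsingleton (CohIII.fiberH π F s (i - 1))) :
    ∃ U : Y.Opens, s ∈ U ∧ IsZero (((Coh.Rpush π (i + 1)).obj F).restrict U.ι) ∧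
      IsZero (((Coh.Rpush π (i - 1)).obj F).restrict U.ι) ∧
      FlatMod.IsFinLocFree (((Coh.Rpush π i).obj F).restrict U.ι) := by
  obtain ⟨Va, hVa, hsa, ha⟩ := exists_affine_nhd_sections_subsingleton π F hfp hfl (i + 1) s habove
  obtain ⟨Vb, hVb, hsb, hb⟩ := exists_affine_nhd_sections_subsingleton π F hfp hfl (i - 1) s hbelow
  obtain ⟨Vc, hVc, hsc, hc⟩ := exists_affine_nhd_sections_finite_projective π F hfp hfl i s habove
    (fun k hk => by
      have h' : k = i - 1 := by omega
      subst h'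
      exact hbelow)
  haveI : ((Coh.Rpush π i).obj F).IsQuasicoherent :=
    Groth.Agent.Lib.Helper5.RpushClassic.isQuasicoherent_rpush π F i
  exact ⟨Va ⊓ Vb ⊓ Vc, ⟨⟨hsa, hsb⟩, hsc⟩,
    isZero_restrict_of_affine _ _ (fun W hW hle =>
      ha W hW (hle.trans (inf_le_left.trans inf_le_left))),
    isZero_restrict_of_affine _ _ (fun W hW hle =>
      hb W hW (hle.trans (inf_le_left.trans inf_le_right))),
    isFinLocFree_restrict_of_affine _ _ (fun W hW hle => hc W hW (hle.trans inf_le_right))⟩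

end Main

end Groth.Agent.Helper7.CohBC
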